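import Cfsg.Agent.EqLemmas

/-!
Data on the fixed points of an outer involution of Fi22 with fixed group `2^6.O6-(2)` (helper79).
-/

set_option autoImplicit false

namespace Cfsg.Agent.Fi22AutFour

/-- the fixed points, in pairs -/
def w3 : List (List ℕ) := [[], [1, 0, 2, 1], [1, 0, 2, 1, 3, 2, 4, 3], [1, 0, 2, 1, 3, 2, 4, 3, 5, 4, 6, 5], [1, 0, 2, 1, 3, 2, 4, 3, 5], [1, 0, 2, 1, 3, 2, 4, 3, 5, 4, 6], [1, 0, 2, 1, 3, 2, 7, 3, 8, 7], [1, 2, 3, 4, 5, 6, 7, 3, 2, 1, 4, 3, 2, 5, 4, 3, 8, 7], [1, 2, 3, 4, 5, 7, 3, 2, 1, 4, 3, 2, 7, 3], [1, 2, 3, 4, 5, 6, 7, 3, 2, 1, 4, 3, 2, 7, 3, 4], [1, 2, 3, 4, 5, 6, 7, 3, 2, 4, 3, 5, 4, 7, 3, 8, 7], [1, 0, 2, 1, 3, 4, 5, 6, 7, 3, 4, 5, 8, 7, 3,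 2, 1, 4, 3], [1, 0, 2, 1, 3, 2, 4, 3, 5, 4], [1, 0, 2, 1, 3, 2, 4, 3, 5, 6], [1, 2, 3, 4, 5, 6, 7, 3, 2, 1, 4, 3, 2, 7, 3], [1, 2, 3, 4, 5, 7, 3, 2, 1, 4, 3, 2, 7, 3, 4], [1, 2, 3, 4, 5, 7, 3, 2, 1, 4, 3, 2, 7, 3, 8], [1, 2, 3, 4, 5, 6, 7, 3, 2, 1, 4, 3, 2, 7, 3, 4, 8], [1, 2, 3, 4, 7, 3, 2, 1, 8, 7, 3, 2, 4, 3, 7], [1, 2, 3, 4, 5, 6, 7, 3, 2, 1, 4, 3, 2, 5, 7, 3, 8], [1, 2, 3, 4, 5, 6, 7, 3, 2, 1, 4, 3, 2, 5, 7, 3], [1, 2, 3, 4, 5, 7, 3, 2, 1, 4, 3, 2, 7, 3, 4, 5], [1, 2, 3, 4, 5, 6, 7, 3, 2, 1, 4, 3, 2, 7, 3, 8], [1, 2, 3, 4, 5, 7, 3, 2, 1, 4, 3, 2, 7, 3, 4, 8], [1, 2, 3, 4, 5, 6, 7, 3, 2, 1, 4, 3, 5, 4, 7, 3], [1, 0, 2, 3, 4, 5, 6, 7, 3, 2, 4, 3, 5, 4, 7, 3, 2, 1], [1, 2, 3,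 4, 5, 6, 7, 3, 2, 1, 4, 3, 5, 4, 7, 3, 8], [1, 0, 2, 1, 3, 4, 5, 6, 7, 3, 4, 5, 8, 7, 3, 2, 4, 3, 7], [1, 0, 2, 3, 4, 5, 6, 7, 3, 2, 4, 3, 5, 4, 7, 3, 8, 7], [1, 2, 3, 4, 5, 6, 7, 3, 2, 4, 3, 5, 4, 7, 3, 2, 8, 7], [1, 2, 3, 4, 5, 6, 7, 3, 2, 1, 4, 3, 2, 5, 4, 3, 8, 7, 3, 2, 4, 3], [1, 2, 3, 4, 5, 6, 7, 3, 2, 1, 4, 3, 2, 5, 4, 3, 8, 7, 3, 2, 1, 0, 4, 3, 2, 1], [1, 2, 3, 4, 5, 6, 7, 3, 2, 1, 4, 3, 2, 5, 4, 3, 8, 7, 3, 2, 4, 3, 5], [1, 2, 3, 4, 5, 6, 7, 3, 2, 1, 4, 3, 2, 5, 4, 3, 8, 7, 3, 2, 4, 3, 5, 4, 6], [1, 2, 3, 4, 5, 6, 7, 3, 2, 1, 4, 3, 2, 5, 4, 3, 8, 7, 3, 2, 1, 4, 3, 7], [1, 2, 3, 4, 5, 6, 7, 3, 2, 1, 4, 3, 2, 5, 4, 3, 8, 7, 3, 2, 1, 0, 4, 3, 2, 7], [1, 2, 3, 4, 5, 6, 7,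 3, 2, 1, 4, 3, 2, 5, 4, 3, 8, 7, 3, 2, 4, 3, 5, 4], [1, 2, 3, 4, 5, 6, 7, 3, 2, 1, 4, 3, 2, 5, 4, 3, 8, 7, 3, 2, 4, 3, 5, 6], [1, 2, 3, 4, 5, 6, 7, 3, 2, 1, 4, 3, 2, 5, 4, 3, 8, 7, 3, 2, 1, 0, 4, 3, 7], [1, 2, 3, 4, 5, 6, 7, 3, 2, 1, 4, 3, 2, 5, 4, 3, 8, 7, 3, 2, 1, 4, 3, 2, 7], [1, 2, 3, 4, 5, 6, 7, 3, 2, 1, 4, 3, 2, 5, 4, 3, 8, 7, 3, 2, 1, 4, 3, 5, 7], [1, 2, 3, 4, 5, 6, 7, 3, 2, 1, 4, 3, 2, 5, 4, 3, 8, 7, 3, 2, 1, 0, 4, 3, 2, 5, 7], [1, 2, 3, 4, 5, 6, 7, 3, 2, 1, 4, 3, 2, 5, 4, 3, 8, 7, 3, 2, 1, 4, 3, 7, 8], [1, 2, 3, 4, 5, 6, 7, 3, 2, 1, 4, 3, 2, 5, 4, 3, 8, 7, 3, 2, 1, 0, 4, 3, 2, 7, 8], [1, 2, 3, 4, 5, 6, 7, 3, 2, 1, 4, 3, 2, 5, 4, 3, 8, 7, 3, 2, 1, 0, 4, 3, 5, 7], [1, 2,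 3, 4, 5, 6, 7, 3, 2, 1, 4, 3, 2, 5, 4, 3, 8, 7, 3, 2, 1, 4, 3, 2, 5, 7], [1, 2, 3, 4, 5, 6, 7, 3, 2, 1, 4, 3, 2, 5, 4, 3, 8, 7, 3, 2, 1, 0, 4, 3, 7, 8], [1, 2, 3, 4, 5, 6, 7, 3, 2, 1, 4, 3, 2, 5, 4, 3, 8, 7, 3, 2, 1, 4, 3, 2, 7, 8], [1, 2, 3, 4, 5, 6, 7, 3, 2, 1, 4, 3, 2, 5, 4, 3, 8, 7, 3, 2, 1, 4, 3, 5, 4, 7], [1, 2, 3, 4, 5, 6, 7, 3, 2, 1, 4, 3, 2, 5, 4, 3, 8, 7, 3, 2, 1, 4, 3, 5, 6, 7], [1, 2, 3, 4, 5, 6, 7, 3, 2, 1, 4, 3, 2, 5, 4, 3, 8, 7, 3, 2, 1, 4, 3, 5, 7, 8], [1, 2, 3, 4, 5, 6, 7, 3, 2, 1, 4, 3, 2, 5, 4, 3, 8, 7, 3, 2, 1, 0, 4, 3, 2, 5, 7, 8], [1, 2, 3, 4, 5, 6, 7, 3, 2, 1, 4, 3, 2, 5, 4, 3, 8, 7, 3, 2, 1, 0, 4, 3, 5, 4, 7], [1, 2, 3, 4, 5, 6, 7, 3, 2, 1, 4, 3, 2, 5, 4,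 3, 8, 7, 3, 2, 1, 0, 4, 3, 5, 6, 7], [1, 2, 3, 4, 5, 6, 7, 3, 2, 1, 4, 3, 2, 5, 4, 3, 8, 7, 3, 2, 1, 0, 4, 3, 5, 7, 8], [1, 2, 3, 4, 5, 6, 7, 3, 2, 1, 4, 3, 2, 5, 4, 3, 8, 7, 3, 2, 1, 4, 3, 2, 5, 7, 8], [1, 2, 3, 4, 5, 6, 7, 3, 2, 1, 4, 3, 2, 5, 4, 3, 8, 7, 3, 2, 1, 4, 3, 5, 4, 7, 8], [1, 2, 3, 4, 5, 6, 7, 3, 2, 1, 4, 3, 2, 5, 4, 3, 8, 7, 3, 2, 1, 4, 3, 5, 6, 7, 8], [1, 2, 3, 4, 5, 6, 7, 3, 2, 1, 4, 3, 2, 5, 4, 3, 8, 7, 3, 2, 1, 0, 4, 3, 5, 4, 7, 8], [1, 2, 3, 4, 5, 6, 7, 3, 2, 1, 4, 3, 2, 5, 4, 3, 8, 7, 3, 2, 1, 0, 4, 3, 5, 6, 7, 8], [1, 2, 3, 4, 5, 6, 7, 3, 2, 1, 4, 3, 2, 5, 4, 3, 8, 7, 3, 2, 1, 4, 3, 2, 7, 3, 4, 8, 7, 3], [1, 2, 3, 4, 5, 6, 7, 3, 2, 1, 4, 3, 2, 5, 7, 3, 8, 7,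 3, 2, 1, 4, 3, 2, 7, 3, 4, 8, 7, 3], [1, 2, 3, 4, 5, 6, 7, 3, 2, 1, 4, 3, 2, 5, 4, 3, 8, 7, 3, 2, 1, 0, 4, 3, 2, 7, 3, 4, 8, 7, 3], [1, 2, 3, 4, 5, 6, 7, 3, 2, 1, 4, 3, 2, 5, 4, 3, 8, 7, 3, 2, 1, 4, 3, 2, 7, 3, 4, 8, 7, 3, 2], [1, 2, 3, 4, 5, 6, 7, 3, 2, 1, 4, 3, 2, 5, 4, 3, 8, 7, 3, 2, 1, 4, 3, 2, 7, 3, 4, 5, 8, 7, 3], [1, 2, 3, 4, 5, 6, 7, 3, 2, 1, 4, 3, 2, 5, 7, 3, 8, 7, 3, 2, 1, 4, 3, 2, 7, 3, 4, 5, 8, 7, 3], [1, 2, 3, 4, 5, 6, 7, 3, 2, 1, 4, 3, 2, 5, 4, 3, 8, 7, 3, 2, 4, 3, 5, 4, 7, 3, 2, 1, 8, 7, 3], [1, 2, 3, 4, 5, 6, 7, 3, 2, 1, 4, 3, 5, 4, 7, 3, 8, 7, 3, 2, 4, 3, 5, 4, 7, 3, 2, 1, 8, 7, 3], [1, 2, 3, 4, 5, 6, 7, 3, 2, 1, 4, 3, 2, 5, 4, 3, 8, 7, 3, 2, 1, 0, 4, 3, 2, 7,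 3, 4, 5, 8, 7, 3], [1, 2, 3, 4, 5, 6, 7, 3, 2, 1, 4, 3, 2, 5, 4, 3, 8, 7, 3, 2, 1, 4, 3, 2, 7, 3, 4, 5, 8, 7, 3, 2], [1, 2, 3, 4, 5, 6, 7, 3, 2, 1, 4, 3, 2, 5, 4, 3, 8, 7, 3, 2, 1, 4, 3, 2, 7, 3, 4, 5, 6, 8, 7, 3], [1, 2, 3, 4, 5, 6, 7, 3, 2, 1, 4, 3, 2, 5, 4, 3, 8, 7, 3, 2, 1, 4, 3, 2, 7, 3, 4, 5, 8, 7, 3, 4]]

/-- their vectors -/
def v3 : List ℕ := [5, 5, 7, 7, 10, 10, 16, 16, 40, 40, 11, 11, 13, 13, 47, 47, 56, 56, 50, 50, 34, 34, 63, 63, 32, 32, 48, 48, 14, 14, 18, 18, 31, 31, 41, 41, 24, 24, 44, 44, 36, 36, 57, 57, 33, 33, 60, 60, 35, 35, 52, 52, 38, 38, 49, 49, 51, 51, 54, 54, 25, 25, 28, 28, 20, 20, 22, 22, 17, 17, 19, 19]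

/-- the dual basis of the first six pairs -/
def dual3 : List ℕ := [27, 26, 23, 32, 16, 5]

/-- paths to the fixed points from the first twelve -/
def fix3Paths : List (ℕ × List ℕ) := [(0, []), (1, []), (2, []), (3, []), (4, []), (5, []), (6, []), (7, []), (8, []), (9, []), (10, []), (11, []), (2, [2]), (3, [2]), (3, [4]), (2, [4]), (6, [4]), (7, [4]), (4, [4, 3]), (5, [4, 3]), (5, [4]), (4, [4]), (3, [4, 3]), (2, [4, 3]), (1, [5, 4, 1, 3, 4, 2, 5, 4, 3]), (0, [5, 4, 1, 3, 4, 2, 5, 4, 3]), (1, [5, 4, 1, 3, 4, 2, 5, 4]), (0, [5, 4, 1, 3, 4, 2, 5, 4]), (0, [5]), (1, [5]), (1, [5, 4, 1, 3, 4, 5]), (0, [5, 4, 1, 3, 4, 5]), (1, [5, 4, 2, 3, 4, 5]), (0, [5, 4, 2, 3, 4, 5]), (4, [4,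 5]), (5, [4, 5]), (1, [5, 4, 1, 3, 4, 2, 5]), (0, [5, 4, 1, 3, 4, 2, 5]), (0, [5, 4, 2]), (1, [5, 4, 2]), (2, [4, 5]), (3, [4, 5]), (4, [4, 3, 5]), (5, [4, 3, 5]), (0, [5, 4, 1]), (1, [5, 4, 1]), (0, [5, 4, 2, 3]), (1, [5, 4, 2, 3]), (8, [5]), (9, [5]), (2, [4, 3, 5]), (3, [4, 3, 5]), (0, [5, 4]), (1, [5, 4]), (0, [5, 4, 1, 3]), (1, [5, 4, 1, 3]), (6, [4, 5]), (7, [4, 5]), (0, [5, 4, 3]), (1, [5, 4, 3]), (1, [5, 4, 1, 3, 4]), (0, [5, 4, 1, 3, 4]), (3, [4, 3, 5, 4]), (2, [4, 3, 5, 4]), (1, [5, 4, 2, 3, 4]), (0, [5, 4, 2, 3, 4]), (3, [4, 3, 5, 4, 2]), (2, [4, 3, 5, 4, 2]), (5, [4, 3, 5, 4]), (4, [4, 3, 5, 4]), (0, [5, 4, 1, 3, 4, 2]), (1, [5, 4, 1, 3, 4, 2])]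

/-- a point not fixed -/
def x3Word : List ℕ := [1, 2, 3]

/-- paths to the nine generating points -/
def gen3Paths : List (ℕ × List ℕ) := [(0, []), (47, [6, 1, 5, 6, 2, 4, 5]), (1, []), (53, [6, 0, 4, 3, 5, 4]), (2, []), (12, []), (3, []), (63, [6, 1, 5, 6, 2, 4, 3]), (6, [])]

/-- fixed points separating the point and its image from the others -/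
def wit3 : List ℕ := [1, 12, 5, 6, 15]

/-- the effect of the products of pairs on the first six pairs -/
def flip3 : List ℕ := [32, 20, 18, 16, 46, 17]

end Cfsg.Agent.Fi22AutFour
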