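import Cfsg.Agent.Lib.FischerM22.AutFour.Tables
import Cfsg.Agent.Lib.FischerM22.AutFour.ThreeData

/-!
Certified facts on the fixed points of `s ∘ conj (a b)` (helper79).
-/

set_option autoImplicit false
set_option maxRecDepth 100000

namespace Cfsg.Agent.Fi22AutFour

open Cfsg.Agent.CosetEnum Cfsg.Agent.CosetEnum.Data
open Cfsg.Agent.Fi22Aut (okw V P letterWords)
open Cfsg.Agent.FischerAut (mapF mbit maskOf)

/-- the form of minus type on numbers below 64 -/
def qf6 (n : ℕ) : Bool :=
  ((n.testBit 0 && n.testBit 2) ^^ (n.testBit 1 && n.testBit 3)) ^^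
    (n.testBit 4 ^^ ((n.testBit 4 && n.testBit 5) ^^ n.testBit 5))

/-- the polar form on numbers below 64 -/
def bf6 (u v : ℕ) : Bool :=
  (((u.testBit 0 && v.testBit 2) ^^ (u.testBit 2 && v.testBit 0)) ^^
    ((u.testBit 1 && v.testBit 3) ^^ (u.testBit 3 && v.testBit 1))) ^^
    ((u.testBit 4 && v.testBit 5) ^^ (u.testBit 5 && v.testBit 4))

/-- the vector of an index, as a number -/
def vn3 (j : ℕ) : ℕ := v3.getD j 0

/-- the point of a word, by following its letters -/
noncomputable def P3 (u : List ℕ) : ℕ := fi22h.tw u 0

theorem P3_eq {u : List ℕ} (h : okw u = true) : P3 u = P u :=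
  (Fi22U62.lane_trace (Fi22Aut.okw_iff.mp h) Fi22U62.pt0).symm

theorem three_words_ok : ((w3.all okw) && okw x3Word) = true := by decide +kernel

theorem three_lengths : w3.length = 72 ∧ v3.length = 72 ∧ dual3.length = 6 := by decide +kernel

theorem three_mask : (force (V (gw 0)) fun T0 => force (V (gw 3)) fun T3 => mapF P3 w3 fun Ps =>
    force (maskOf Ps) fun M => (List.range 3510).all fun q => force (lane 13 T3 q) fun e =>
      force (lane 13 T0 e) fun e' => mbit M q == Nat.beq (sig e') q) = true := by decide +kernel

theorem three_nodup : (mapF P3 w3 fun Ps => (List.range 72).all fun i => (List.range i).all fun j =>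
    !Nat.beq (Ps.getD i 0) (Ps.getD j 0)) = true := by decide +kernel

theorem three_comm : (mapF V (w3.take 12) fun Ts => mapF P3 w3 fun Ps => (List.range 12).all fun i =>
    force (Ts.getD i 0) fun T => (List.range 72).all fun j => force (Ps.getD j 0) fun p =>
      Nat.beq (lane 13 T p) p == !bf6 (vn3 i) (vn3 j)) = true := by decide +kernel

theorem three_refl : (mapF V (w3.take 12) fun Ts => mapF P3 w3 fun Ps => (List.range 12).all fun i =>
    force (Ts.getD i 0) fun T => force (vn3 i) fun vi => (List.range 72).all fun j =>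
      force (Ps.getD j 0) fun p => force (lane 13 T p) fun e => force (vn3 j) fun vj =>
        force (bif bf6 vi vj then vj ^^^ vi else vj) fun r =>
          (List.zip Ps v3).any fun u => Nat.beq u.1 e && Nat.beq u.2 r) = true := by decide +kernel

theorem three_flip : (mapF V (w3.take 12) fun Ts => mapF P3 w3 fun Ps => (List.range 6).all fun m =>
    force (Ts.getD (2 * m) 0) fun T => force (Ts.getD (2 * m + 1) 0) fun T' => (List.range 6).all fun l =>
      force (Ps.getD (2 * l) 0) fun p => force (lane 13 T (lane 13 T' p)) fun e =>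
        Nat.beq e (Ps.getD (bif (flip3.getD m 0).testBit l then 2 * l + 1 else 2 * l) 0)) = true := by decide +kernel

theorem three_fix_paths : (mapF P3 w3 fun Ps => mapF V ((List.range 6).map fun m => w3.getD (2 * m) []) fun Ts =>
    (List.range 72).all fun j => [fix3Paths.getD j (0, [])].all fun u =>
      Nat.blt u.1 12 && ((u.2.all fun b => Nat.blt b 6) && Nat.beq (follow Ts u.2 (Ps.getD u.1 0)) (Ps.getD j 0))) =
        true := by
  decide +kernel

theorem three_gen_paths : (mapF P3 (w3 ++ [x3Word]) fun Ps =>
    mapF V (((List.range 6).map fun m => w3.getD (2 * m) []) ++ [x3Word]) fun Ts =>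
      (List.range 9).all fun a => [gen3Paths.getD a (0, [])].all fun u => Nat.blt u.1 73 &&
        ((u.2.all fun b => Nat.blt b 7) &&
          Nat.beq (follow Ts u.2 (Ps.getD u.1 0)) (P3 (letterWords.getD a [])))) = true := by
  decide +kernel

theorem three_patt : (force (V (gw 0)) fun T0 => force (V (gw 3)) fun T3 => force (P3 x3Word) fun x =>
    mapF V (wit3.map fun i => w3.getD i []) fun Ws => force (sig (lane 13 T0 (lane 13 T3 x))) fun x' =>
      (List.range 3510).all fun q => force (lane 13 T3 q) fun e => force (lane 13 T0 e) fun e' =>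
        Nat.beq (sig e') q || (Nat.beq q x || (Nat.beq q x' || Ws.any fun T =>
          !(Nat.beq (lane 13 T q) q == Nat.beq (lane 13 T x) x)))) = true := by
  decide +kernel

theorem three_x : (force (V (gw 0)) fun T0 => force (V (gw 3)) fun T3 => force (P3 x3Word) fun x =>
    !Nat.beq (sig (lane 13 T0 (lane 13 T3 x))) x) = true := by
  decide +kernel

end Cfsg.Agent.Fi22AutFour
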