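import Cfsg.Agent.Lib.FischerM22.AutFour.Twist
import Cfsg.Agent.Lib.FischerM22.AutFour.Bits
import Cfsg.Agent.Lib.FischerM22.AutFour.ThreeTables
import Cfsg.Agent.Lib.FischerM22.OrthSix
import Cfsg.Agent.S0288
import Mathlib.FieldTheory.Finite.GaloisField

/-!
The fixed group of `s ∘ conj (a b)` for commuting transpositions `a`, `b` fixed by the outer involution `s` of
Fi22 (helper79).

* `theta` : the action on 36 pairs of fixed transpositions as the nonsingular vectors of a form of minus type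
* `three_structure` : the fixed group is `2^6.O6-(2)`; `card_T_ab`
-/

set_option autoImplicit false
set_option maxRecDepth 10000

namespace Cfsg.Agent.Fi22AutFour

open Cfsg Cfsg.Agent.Orth
open Cfsg.Agent.CosetEnum Cfsg.Agent.CosetEnum.Data
open Cfsg.Agent.Fi22U62 (rho pt0 z0 rho_injective rho_ev lane_trace)
open Cfsg.Agent.Fi22Aut (okw okw_iff V P P_eq pt ctx model gpt d_gpt gen_top eq_one_of_fix)
open Cfsg.Agent.FischerAut (mapF mapF_eq mbit maskOf)
open QuadraticMap (polar)
open Matrix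

/-- the six coordinates -/
abbrev I6 : Type := (Fin 2 ⊕ Fin 2) ⊕ Fin 2

/-- the number of a coordinate -/
def pos6 : I6 → ℕ := Sum.elim (Sum.elim (fun i => i.val) fun i => 2 + i.val) fun i => 4 + i.val

/-- the vector of a number below 64 -/
def dec6 (n : ℕ) : I6 → ZMod 2 := fun i => b2 (n.testBit (pos6 i))

/-- the form of minus type -/
noncomputable def Q6 : QuadraticForm (ZMod 2) (I6 → ZMod 2) := quadMinus 2 (ZMod 2) (1 : ZMod 2) 1

theorem q6_coe : (⇑Q6 : (I6 → ZMod 2) → ZMod 2) = Cfsg.quadFormMinus 2 (ZMod 2) 1 1 := rfl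

theorem q6_dec : ∀ n : Fin 64, Cfsg.quadFormMinus 2 (ZMod 2) 1 1 (dec6 n) = b2 (qf6 n) := by decide +kernel

theorem b6_dec : ∀ m n : Fin 64, polar (Cfsg.quadFormMinus 2 (ZMod 2) 1 1) (dec6 m) (dec6 n) = b2 (bf6 m n) := by
  decide +kernel

theorem dec6_rimg : ∀ m n : Fin 64, dec6 (bif bf6 m n then (n : ℕ) ^^^ m else n) =
    dec6 n + b2 (bf6 m n) • dec6 m := by decide +kernel

/-- the transposition composed with the automorphism -/
noncomputable def k3 : fi22Setup.G := td 0 * td 3

theorem td03 : td 0 * td 3 = td 3 * td 0 := by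
  have h : rho (td 0) (gp 3) = gp 3 := Fin.ext (by
    rw [rho_td (by norm_num), gp_val (by norm_num)]
    have hl := link_check
    simp only [force_eq, Bool.and_eq_true, List.all_eq_true] at hl
    exact Nat.eq_of_beq_eq_true (hl.1 3 (by simp)))
  exact (model.commute_of_fix h).eq

theorem k3_mem_S : k3 ∈ S := mul_mem (d_mem_S' (gp_spec (by norm_num)).1) (d_mem_S' (gp_spec (by norm_num)).1)

theorem k3_sq : k3 * k3 = 1 := by
  rw [k3]
  calc td 0 * td 3 * (td 0 * td 3) = td 0 * (td 3 * td 0) * td 3 := by simp only [mul_assoc]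
    _ = td 0 * td 0 * (td 3 * td 3) := by rw [← td03]; simp only [mul_assoc]
    _ = 1 := by rw [td_sq, td_sq, one_mul]

theorem tau3_val (i : Fin fi22h.n) :
    (tau k3 i : ℕ) = sig (lane 13 (V (gw 0)) (lane 13 (V (gw 3)) i)) := by
  rw [tau, Equiv.Perm.mul_apply, sigma_val, k3, map_mul, Equiv.Perm.mul_apply, rho_td (by norm_num),
    rho_td (by norm_num)]

/-- the word of an index -/
def wj (j : ℕ) : List ℕ := w3.getD j []

/-- the fixed points -/
noncomputable def ps (j : Fin 72) : Fin fi22h.n := pt (wj j)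

theorem wj_ok {j : ℕ} (hj : j < 72) : okw (wj j) = true := by
  have h := three_words_ok
  simp only [Bool.and_eq_true, List.all_eq_true] at h
  have hl : j < w3.length := by rw [three_lengths.1]; exact hj
  rw [wj, List.getD_eq_getElem _ _ hl]
  exact h.1 _ (List.getElem_mem _)

theorem x3_ok : okw x3Word = true := by
  have h := three_words_ok
  rw [Bool.and_eq_true] at h
  exact h.2

/-- the point moved -/
noncomputable def x3 : Fin fi22h.n := pt x3Word

theorem ps_val (j : Fin 72) : (ps j : ℕ) = P3 (wj j) := by rw [P3_eq (wj_ok j.2), P_eq (wj_ok j.2)]; rfl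

theorem map_P3_getD (j : Fin 72) : (w3.map P3).getD j 0 = (ps j : ℕ) := by
  have hl : (j : ℕ) < w3.length := by rw [three_lengths.1]; exact j.2
  rw [ps_val, wj, List.getD_eq_getElem _ _ (by rw [List.length_map]; exact hl), List.getElem_map,
    List.getD_eq_getElem _ _ hl]

theorem fixed_iff {i : Fin fi22h.n} : tau k3 i = i ↔ ∃ j, ps j = i := by
  have h := three_mask
  simp only [force_eq, mapF_eq, List.all_eq_true, beq_iff_eq] at h
  have h' := h i (List.mem_range.mpr i.2)
  rw [← tau3_val] at h'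
  rw [Fin.ext_iff, ← Nat.beq_eq, ← h', FischerAut.Ctx.maskOf_iff, List.mem_map]
  constructor
  · rintro ⟨u, hu, he⟩
    obtain ⟨n, hn, rfl⟩ := List.mem_iff_getElem.mp hu
    have hn' : n < 72 := three_lengths.1 ▸ hn
    exact ⟨⟨n, hn'⟩, Fin.ext (by rw [ps_val, wj, List.getD_eq_getElem _ _ hn, he])⟩
  · rintro ⟨j, rfl⟩
    have hl : (j : ℕ) < w3.length := by rw [three_lengths.1]; exact j.2
    exact ⟨_, List.getElem_mem hl, by rw [ps_val, wj, List.getD_eq_getElem _ _ hl]⟩

theorem tau_ps (j : Fin 72) : tau k3 (ps j) = ps j := fixed_iff.2 ⟨j, rfl⟩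

theorem ps_injective : Function.Injective ps := by
  have h := three_nodup
  simp only [mapF_eq, List.all_eq_true, List.mem_range, Bool.not_eq_true'] at h
  have key : ∀ a b : Fin 72, b < a → ps a ≠ ps b := fun a b hlt e => by
    have := h a a.2 b hlt
    rw [map_P3_getD, map_P3_getD, e, Nat.beq_refl] at this
    exact absurd this (by decide)
  intro a b e
  rcases lt_trichotomy a b with hlt | rfl | hlt
  · exact absurd e.symm (key b a hlt)
  · rfl
  · exact absurd e (key a b hlt)

/-- the vector of a fixed point -/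
def vv (j : Fin 72) : I6 → ZMod 2 := dec6 (vn3 j)

theorem vn3_lt : ∀ j : Fin 72, vn3 j < 64 := by decide +kernel

theorem B_vv (i j : Fin 72) : polar ⇑Q6 (vv i) (vv j) = b2 (bf6 (vn3 i) (vn3 j)) := by
  rw [q6_coe]; exact b6_dec ⟨_, vn3_lt i⟩ ⟨_, vn3_lt j⟩

theorem Q_vv : ∀ j, Cfsg.quadFormMinus 2 (ZMod 2) 1 1 (vv j) = 1 := by decide +kernel

theorem exists_vv : ∀ x : I6 → ZMod 2, Cfsg.quadFormMinus 2 (ZMod 2) 1 1 x = 1 → ∃ j, vv j = x := by decide +kernel

theorem vv_eq_iff : ∀ i j : Fin 72, vv i = vv j ↔ (i : ℕ) / 2 = (j : ℕ) / 2 := by decide +kernel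

/-- a vector of the dual basis -/
def du (m : Fin 6) : I6 → ZMod 2 := dec6 (dual3.getD m 0)

/-- index of a member of one of the first six pairs -/
def bm (m : Fin 6) (t : ZMod 2) : Fin 72 :=
  ⟨2 * m.val + t.val, by have h1 := m.2; have h2 := ZMod.val_lt t; omega⟩

theorem expand : ∀ x : I6 → ZMod 2,
    x = ∑ m, polar (Cfsg.quadFormMinus 2 (ZMod 2) 1 1) x (du m) • vv (bm m 0) := by decide +kernel

theorem ext_six {f g : (I6 → ZMod 2) →ₗ[ZMod 2] (I6 → ZMod 2)} (h : ∀ j, f (vv j) = g (vv j)) : f = g := by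
  refine LinearMap.ext fun x => ?_
  rcases FischerM22.nonsingular_gen x with hx | ⟨u, hu, hxu⟩
  · obtain ⟨j, rfl⟩ := exists_vv x hx
    exact h j
  · obtain ⟨j, hj⟩ := exists_vv u hu
    obtain ⟨j', hj'⟩ := exists_vv (x + u) hxu
    have h2 := h j'
    rw [hj', map_add, map_add, ← hj, h j] at h2
    exact add_right_cancel h2

theorem nondeg_vv {z : I6 → ZMod 2} (h : ∀ j, polar ⇑Q6 z (vv j) = 0) : z = 0 := by
  have hnd : Q6.polarBilin.Nondegenerate := quadMinus_nondeg 2 FischerM22.aniso_two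
  refine hnd.1 z fun x => ?_
  rcases FischerM22.nonsingular_gen x with hx | ⟨u, hu, hxu⟩
  · obtain ⟨j, rfl⟩ := exists_vv x hx
    exact h j
  · obtain ⟨j, hj⟩ := exists_vv u hu
    obtain ⟨j', hj'⟩ := exists_vv (x + u) hxu
    have e : x = vv j' + vv j := by rw [hj', hj, add_assoc, CharTwo.add_self_eq_zero, add_zero]
    rw [e, map_add]
    show polar ⇑Q6 z (vv j') + polar ⇑Q6 z (vv j) = 0
    rw [h, h, add_zero]

/-- the six generators -/
noncomputable def el3 (m : ℕ) : fi22Setup.G := model.d (pt (wj (2 * m)))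

theorem el3_mem {m : ℕ} (hm : m < 6) : el3 m ∈ T k3 := d_mem_T (tau_ps ⟨2 * m, by omega⟩)

theorem six_words_getD {m : ℕ} (hm : m < 6) :
    ((List.range 6).map fun m => w3.getD (2 * m) []).getD m [] = wj (2 * m) := by
  rw [List.getD_eq_getElem _ _ (by simpa using hm), List.getElem_map, List.getElem_range]; rfl

theorem refl_spec' (i : Fin 72) (hi : (i : ℕ) < 12) (j : Fin 72) :
    ∃ k : Fin 72, rho (model.d (ps i)) (ps j) = ps k ∧ vv k = vv j + polar ⇑Q6 (vv i) (vv j) • vv i := by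
  have h := three_refl
  simp only [mapF_eq, force_eq, List.all_eq_true, List.mem_range, List.any_eq_true, Bool.and_eq_true] at h
  obtain ⟨u, hu, h1, h2⟩ := h i hi j j.2
  obtain ⟨k, hk, rfl⟩ := List.mem_iff_getElem.mp hu
  rw [List.length_zip, List.length_map, three_lengths.1, three_lengths.2.1] at hk
  refine ⟨⟨k, by omega⟩, Fin.ext ?_, ?_⟩
  · have e := Nat.eq_of_beq_eq_true h1
    have hl : (i : ℕ) < (w3.take 12).length := by rw [List.length_take, three_lengths.1]; omega
    rw [List.getElem_zip, List.getElem_map, map_P3_getD, List.getD_eq_getElem _ _ (by rw [List.length_map]; exact hl),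
      List.getElem_map, List.getElem_take] at e
    rw [show (rho (model.d (ps i)) (ps j) : ℕ) = lane 13 (V (wj i)) (ps j) from (ctx.hV _ (wj_ok i.2) _).symm,
      ps_val ⟨k, by omega⟩, wj, wj, List.getD_eq_getElem, List.getD_eq_getElem]
    exact e.symm
  · have e := Nat.eq_of_beq_eq_true h2
    have hk' : k < v3.length := by rw [three_lengths.2.1]; omega
    simp only [List.getElem_zip] at e
    rw [show ((v3[k]'hk') : ℕ) = vn3 k by rw [vn3, List.getD_eq_getElem]] at e
    rw [B_vv]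
    show dec6 (vn3 k) = _
    rw [e]
    exact dec6_rimg ⟨_, vn3_lt i⟩ ⟨_, vn3_lt j⟩

theorem refl_spec {m : ℕ} (hm : m < 6) (j : Fin 72) :
    ∃ k : Fin 72, rho (el3 m) (ps j) = ps k ∧
      vv k = vv j + polar ⇑Q6 (vv ⟨2 * m, by omega⟩) (vv j) • vv ⟨2 * m, by omega⟩ :=
  refl_spec' ⟨2 * m, by omega⟩ (by show 2 * m < 12; omega) j

theorem B_rimg (v a b : I6 → ZMod 2) (hv : Q6 v = 1) :
    polar ⇑Q6 (a + polar ⇑Q6 v a • v) (b + polar ⇑Q6 v b • v) = polar ⇑Q6 a b := by
  have hvv : polar ⇑Q6 v v = 0 := by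
    rw [QuadraticMap.polar_self, hv, two_nsmul, CharTwo.add_self_eq_zero]
  rw [pl_add_left, pl_add_right, pl_add_right, pl_smul_left, pl_smul_left, pl_smul_right, pl_smul_right, hvv,
    pl_comm Q6 a v]
  linear_combination polar ⇑Q6 v a * polar ⇑Q6 v b * CharTwo.two_eq_zero (R := ZMod 2)

theorem path_induction (Q : Fin 72 → Prop) (h0 : ∀ j : Fin 72, (j : ℕ) < 12 → Q j)
    (hs : ∀ m < 6, ∀ i k, Q i → rho (el3 m) (ps i) = ps k → Q k) (j : Fin 72) : Q j := by
  have h := three_fix_paths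
  simp only [mapF_eq, List.all_eq_true, List.mem_range, List.mem_singleton, Bool.and_eq_true, Nat.blt_eq,
    forall_eq] at h
  obtain ⟨hst, hw, he⟩ := h j j.2
  set u := fix3Paths.getD j (0, [])
  set Ws := (List.range 6).map fun m => w3.getD (2 * m) [] with hWs
  have hlen : Ws.length = 6 := by simp [Ws]
  have hok : ∀ w ∈ Ws, okw w = true := fun w hw => by
    obtain ⟨m, hm, rfl⟩ := List.mem_map.mp hw
    have := List.mem_range.mp hm
    exact wj_ok (by omega)
  set el := fun a => model.d (pt (Ws.getD a []))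
  have key : ∀ (w : List ℕ), (∀ a ∈ w, a < 6) → ∀ i, Q i → ∃ k, rho (ev el w) (ps i) = ps k ∧ Q k := by
    intro w
    induction w with
    | nil => exact fun _ i hi => ⟨i, by simp [ev], hi⟩
    | cons a w ih =>
      intro hw i hi
      have ha := hw a List.mem_cons_self
      obtain ⟨k, hk, -⟩ := refl_spec ha i
      rw [show ev el (a :: w) = ev el w * el a from rfl, map_mul]
      have e : el a = el3 a := by
        show model.d (pt (Ws.getD a [])) = _
        rw [hWs, six_words_getD ha]; rfl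
      rw [Equiv.Perm.mul_apply, e, hk]
      exact ih (fun c hc => hw c (List.mem_cons_of_mem a hc)) k (hs a ha i k hi hk)
  obtain ⟨k, hk, hQ⟩ := key u.2 hw ⟨u.1, by omega⟩ (h0 _ hst)
  suffices e : ps j = ps k by rwa [ps_injective e]
  refine Fin.ext ?_
  rw [← hk, ← follow_pts Ws hok u.2 (fun a ha => by rw [hlen]; exact hw a ha)]
  have hh := Nat.eq_of_beq_eq_true he
  rw [map_P3_getD j, show (w3.map P3).getD u.1 0 = (ps ⟨u.1, by omega⟩ : ℕ) from map_P3_getD ⟨u.1, by omega⟩] at hh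
  exact hh.symm

theorem comm_iff (i j : Fin 72) : rho (model.d (ps i)) (ps j) = ps j ↔ polar ⇑Q6 (vv i) (vv j) = 0 := by
  revert i j
  refine path_induction (fun i => ∀ j, rho (model.d (ps i)) (ps j) = ps j ↔ polar ⇑Q6 (vv i) (vv j) = 0) ?_ ?_
  · intro i hi j
    have h := three_comm
    simp only [mapF_eq, force_eq, List.all_eq_true, List.mem_range, beq_iff_eq] at h
    have e := h i hi j j.2
    have hl : (i : ℕ) < (w3.take 12).length := by rw [List.length_take, three_lengths.1]; omega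
    rw [List.getD_eq_getElem _ _ (by rw [List.length_map]; exact hl), List.getElem_map, List.getElem_take,
      ← List.getD_eq_getElem _ [], show w3.getD i [] = wj i from rfl, map_P3_getD, ctx.hV _ (wj_ok i.2)] at e
    have e' : Nat.beq (rho (model.d (ps i)) (ps j) : ℕ) (ps j) = !bf6 (vn3 i) (vn3 j) := e
    rw [Fin.ext_iff, ← Nat.beq_eq, e', B_vv]
    cases bf6 (vn3 i) (vn3 j) <;> decide
  · intro m hm i k hQ hk j
    obtain ⟨j', hj', hvj'⟩ := refl_spec hm j
    obtain ⟨k', hk', hvk⟩ := refl_spec hm i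
    obtain rfl : k' = k := ps_injective (hk'.symm.trans hk)
    have hj : rho (el3 m) (ps j') = ps j := by
      rw [← hj', ← Equiv.Perm.mul_apply, ← map_mul, el3, d_sq, map_one, Equiv.Perm.one_apply]
    obtain ⟨j'', hj'', hvj⟩ := refl_spec hm j'
    obtain rfl : j'' = j := ps_injective (hj''.symm.trans hj)
    rw [hvk, hvj, B_rimg _ _ _ (Q_vv _), ← hQ j', ← hk, ← hj, d_rho, map_mul, map_mul, map_inv,
      Equiv.Perm.mul_apply, Equiv.Perm.mul_apply,
      show (rho (el3 m))⁻¹ (rho (el3 m) (ps j')) = ps j' from (rho (el3 m)).symm_apply_apply _,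
      (rho (el3 m)).injective.eq_iff]

theorem exists_image (g : ↥(T k3)) (j : Fin 72) : ∃ k, rho g.1 (ps j) = ps k := by
  obtain ⟨k, hk⟩ := fixed_iff.1 (fixed_rho g.2 (tau_ps j))
  exact ⟨k, hk.symm⟩

/-- the permutation of the fixed points -/
noncomputable def img (g : ↥(T k3)) (j : Fin 72) : Fin 72 := (exists_image g j).choose

theorem img_spec (g : ↥(T k3)) (j : Fin 72) : rho g.1 (ps j) = ps (img g j) := (exists_image g j).choose_spec

theorem img_mul (g h : ↥(T k3)) (j : Fin 72) : img (g * h) j = img g (img h j) := ps_injective (by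
  rw [← img_spec, ← img_spec, ← img_spec, Subgroup.coe_mul, map_mul, Equiv.Perm.mul_apply])

theorem img_one (j : Fin 72) : img 1 j = j := ps_injective (by
  rw [← img_spec, Subgroup.coe_one, map_one, Equiv.Perm.one_apply])

theorem img_surjective (g : ↥(T k3)) : Function.Surjective (img g) := fun j =>
  ⟨img g⁻¹ j, by rw [← img_mul, mul_inv_cancel, img_one]⟩

theorem img_injective (g : ↥(T k3)) : Function.Injective (img g) := fun a b h => by
  have := congrArg (img g⁻¹) h
  rwa [← img_mul, ← img_mul, inv_mul_cancel, img_one, img_one] at this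

theorem B_img (g : ↥(T k3)) (i j : Fin 72) :
    polar ⇑Q6 (vv (img g i)) (vv (img g j)) = polar ⇑Q6 (vv i) (vv j) := by
  have h2 : ∀ a b : ZMod 2, (a = 0 ↔ b = 0) → a = b := by decide
  refine h2 _ _ ?_
  rw [← comm_iff, ← comm_iff, ← img_spec, ← img_spec, d_rho, map_mul, map_mul, map_inv, Equiv.Perm.mul_apply,
    Equiv.Perm.mul_apply, show (rho g.1)⁻¹ (rho g.1 (ps j)) = ps j from (rho g.1).symm_apply_apply _,
    (rho g.1).injective.eq_iff]

/-- the linear map of an element -/
noncomputable def lin (g : ↥(T k3)) : (I6 → ZMod 2) →ₗ[ZMod 2] (I6 → ZMod 2) :=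
  ∑ m, (Q6.polarBilin.flip (du m)).smulRight (vv (img g (bm m 0)))

theorem lin_apply (g : ↥(T k3)) (x : I6 → ZMod 2) :
    lin g x = ∑ m, polar ⇑Q6 x (du m) • vv (img g (bm m 0)) := by
  simp [lin, LinearMap.sum_apply]

theorem lin_vv (g : ↥(T k3)) (i : Fin 72) : lin g (vv i) = vv (img g i) := by
  refine sub_eq_zero.1 (nondeg_vv fun j => ?_)
  obtain ⟨j, rfl⟩ := img_surjective g j
  rw [pl_sub_left, B_img, sub_eq_zero, lin_apply]
  conv_rhs => rw [expand (vv i)]
  simp only [← QuadraticMap.polarBilin_apply_apply, map_sum, map_smul, LinearMap.sum_apply, LinearMap.smul_apply]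
  simp only [QuadraticMap.polarBilin_apply_apply, B_img]
  simp only [q6_coe, smul_eq_mul]

theorem lin_mul (g h : ↥(T k3)) : lin (g * h) = (lin g).comp (lin h) :=
  ext_six fun j => by rw [LinearMap.comp_apply, lin_vv, lin_vv, lin_vv, img_mul]

/-- the matrices -/
noncomputable def matHom : ↥(T k3) →* Matrix I6 I6 (ZMod 2) where
  toFun g := LinearMap.toMatrix' (lin g)
  map_one' := by
    rw [show lin 1 = LinearMap.id from ext_six fun j => by rw [lin_vv, img_one]; rfl, LinearMap.toMatrix'_id]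
  map_mul' g h := by rw [lin_mul, LinearMap.toMatrix'_comp]

theorem toHomUnits_mem (g : ↥(T k3)) :
    matHom.toHomUnits g ∈ Cfsg.isometryGroup (ZMod 2) (Cfsg.quadFormMinus 2 (ZMod 2) 1 1) := by
  have key : ∀ x, Cfsg.quadFormMinus 2 (ZMod 2) 1 1 (lin g x) = Cfsg.quadFormMinus 2 (ZMod 2) 1 1 x := by
    intro x
    rcases FischerM22.nonsingular_gen x with hx | ⟨u, hu, hxu⟩
    · obtain ⟨j, rfl⟩ := exists_vv x hx
      rw [lin_vv, Q_vv, Q_vv]
    · obtain ⟨j, hj⟩ := exists_vv u hu
      obtain ⟨j', hj'⟩ := exists_vv (x + u) hxu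
      have e : x = vv j' + vv j := by rw [hj', hj, add_assoc, CharTwo.add_self_eq_zero, add_zero]
      rw [e, map_add, lin_vv, lin_vv, ← q6_coe, Orth.Q_add, Orth.Q_add, B_img]
      simp only [q6_coe, Q_vv]
  intro x y
  show Cfsg.quadFormMinus 2 (ZMod 2) 1 1 (LinearMap.toMatrix' (lin g) *ᵥ x) = _
  rw [LinearMap.toMatrix'_mulVec, key]

/-- the action on the six-dimensional space -/
noncomputable def theta : ↥(T k3) →* IsoGrp Q6 := matHom.toHomUnits.codRestrict _ toHomUnits_mem

theorem theta_ap (g : ↥(T k3)) (x : I6 → ZMod 2) : Orth.ap (theta g) x = lin g x := by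
  show LinearMap.toMatrix' (lin g) *ᵥ x = _
  rw [LinearMap.toMatrix'_mulVec]

theorem theta_vv (g : ↥(T k3)) (j : Fin 72) : Orth.ap (theta g) (vv j) = vv (img g j) := by
  rw [theta_ap, lin_vv]

theorem ext_theta {a b : IsoGrp Q6} (h : ∀ j, Orth.ap a (vv j) = Orth.ap b (vv j)) : a = b :=
  Orth.ext_ap fun x => LinearMap.congr_fun (ext_six h) x

theorem theta_el3 {m : ℕ} (hm : m < 6) :
    theta ⟨el3 m, el3_mem hm⟩ = Orth.refl Q6 (vv ⟨2 * m, by omega⟩) := by
  refine ext_theta fun j => ?_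
  obtain ⟨k, hk, hv⟩ := refl_spec hm j
  rw [theta_vv, show img ⟨el3 m, el3_mem hm⟩ j = k from ps_injective ((img_spec _ j).symm.trans hk), hv,
    Orth.refl_ap, show Q6 (vv ⟨2 * m, by omega⟩) = 1 from Q_vv _, inv_one, one_mul, sub_eq_add_neg, CharTwo.neg_eq]

theorem theta_surjective : Function.Surjective theta := by
  have hnd : Q6.polarBilin.Nondegenerate := quadMinus_nondeg 2 FischerM22.aniso_two
  rw [← MonoidHom.range_eq_top, eq_top_iff,
    ← Orth.closure_refl_eq_top (Q := Q6) hnd (.inr (by decide)), Orth.reflGen, Subgroup.closure_le]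
  rintro _ ⟨v, rfl⟩
  rcases FischerM22.zmod_two_cases (Q6 v) with h0 | h1
  · rw [Orth.refl_eq_one (Q := Q6) h0]
    exact one_mem _
  obtain ⟨j, rfl⟩ := exists_vv v h1
  refine path_induction (fun j => Orth.refl Q6 (vv j) ∈ theta.range) ?_ ?_ j
  · intro j hj
    refine ⟨⟨el3 (j / 2), el3_mem (by omega)⟩, ?_⟩
    rw [theta_el3 (by omega)]
    congr 1
    exact (vv_eq_iff _ _).2 (by show 2 * ((j : ℕ) / 2) / 2 = (j : ℕ) / 2; omega)
  · intro m hm i k hi hk
    have : vv k = Orth.ap (theta ⟨el3 m, el3_mem hm⟩) (vv i) := by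
      rw [theta_vv]
      exact congrArg vv (ps_injective (hk.symm.trans (img_spec ⟨el3 m, el3_mem hm⟩ i)))
    rw [this, ← Orth.conj_refl]
    exact mul_mem (mul_mem ⟨_, rfl⟩ hi) (inv_mem ⟨_, rfl⟩)

theorem mem_ker_iff {g : ↥(T k3)} : g ∈ theta.ker ↔ ∀ j, (img g j : ℕ) / 2 = (j : ℕ) / 2 := by
  rw [MonoidHom.mem_ker]
  refine ⟨fun h j => (vv_eq_iff _ _).1 (by rw [← theta_vv, h, Orth.ap_one]), fun h => ext_theta fun j => ?_⟩
  rw [theta_vv, Orth.ap_one]
  exact (vv_eq_iff _ _).2 (h j)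

/-- whether an element interchanges the first pairs -/
noncomputable def flip (g : ↥(T k3)) (m : Fin 6) : ZMod 2 := if img g (bm m 0) = bm m 0 then 0 else 1

theorem bm_cases : ∀ (k : Fin 72) (m : Fin 6) (t : ZMod 2), (k : ℕ) / 2 = (bm m t : ℕ) / 2 → k = bm m 0 ∨ k = bm m 1 := by
  decide +kernel

theorem bm_ne (m : Fin 6) : bm m 1 ≠ bm m 0 := by revert m; decide

theorem img_bm {g : ↥(T k3)} (hg : g ∈ theta.ker) (m : Fin 6) (t : ZMod 2) :
    img g (bm m t) = bm m (t + flip g m) := by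
  have h := fun t => bm_cases _ m t ((mem_ker_iff.1 hg) (bm m t))
  have hne : img g (bm m 1) ≠ img g (bm m 0) := fun e => bm_ne m (img_injective g e)
  rcases FischerM22.zmod_two_cases t with rfl | rfl <;> rcases h 0 with e0 | e0 <;> rcases h 1 with e1 | e1
  all_goals first
    | exact absurd (e1.trans e0.symm) hne
    | (rw [flip, e0]
       simp only [if_true, bm_ne m, if_false, zero_add, add_zero]
       all_goals first | exact e0 | exact e1 | (rw [CharTwo.add_self_eq_zero]; exact e1))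

theorem bm_inj : ∀ (m : Fin 6) (a b : ZMod 2), bm m a = bm m b → a = b := by decide

/-- the interchanges as a homomorphism -/
noncomputable def flipHom : ↥theta.ker →* Multiplicative (Fin 6 → ZMod 2) where
  toFun g := Multiplicative.ofAdd (flip g.1)
  map_one' := by
    rw [ofAdd_eq_one]
    funext m
    simp [flip, img_one]
  map_mul' g h := by
    rw [← ofAdd_add]
    congr 1
    funext m
    have e := img_bm (g * h).2 m 0
    rw [Subgroup.coe_mul, img_mul, img_bm h.2, img_bm g.2, zero_add, zero_add] at e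
    rw [Pi.add_apply, Subgroup.coe_mul, ← bm_inj _ _ _ e, add_comm]

theorem fix_ps {g : ↥(T k3)} (hg : ∀ m : Fin 6, ∀ t, img g (bm m t) = bm m t) (j : Fin 72) :
    rho g.1 (ps j) = ps j := by
  refine path_induction (fun j => rho g.1 (ps j) = ps j) (fun j hj => ?_) (fun m hm i k hi hk => ?_) j
  · have : ∀ j : Fin 72, (j : ℕ) < 12 → ∃ m t, bm m t = j := by decide
    obtain ⟨m, t, rfl⟩ := this j hj
    rw [img_spec, hg]
  · have hm0 : rho g.1 (ps ⟨2 * m, by omega⟩) = ps ⟨2 * m, by omega⟩ := by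
      have := hg ⟨m, hm⟩ 0
      have e : bm ⟨m, hm⟩ 0 = ⟨2 * m, by omega⟩ := Fin.ext (by simp [bm])
      rw [e] at this
      rw [img_spec, this]
    rw [← hk, ← Equiv.Perm.mul_apply, ← map_mul,
      show g.1 * el3 m = el3 m * g.1 from (model.commute_of_fix hm0).eq, map_mul, Equiv.Perm.mul_apply, hi]

theorem x3_image {g : ↥(T k3)} (hfix : ∀ j, rho g.1 (ps j) = ps j) :
    rho g.1 x3 = x3 ∨ rho g.1 x3 = tau k3 x3 := by
  have hp := three_patt
  simp only [force_eq, mapF_eq, List.all_eq_true, Bool.or_eq_true, List.any_eq_true, Bool.not_eq_true'] at hp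
  have hxv : P3 x3Word = (x3 : ℕ) := by rw [P3_eq x3_ok, P_eq x3_ok]; rfl
  rw [hxv] at hp
  set q := rho g.1 x3
  rcases hp q (List.mem_range.mpr q.2) with h | h | h | ⟨U, hU, hne⟩
  · exfalso
    rw [← tau3_val] at h
    have hq : tau k3 q = q := Fin.ext (Nat.eq_of_beq_eq_true h)
    obtain ⟨j, hj⟩ := fixed_iff.1 hq
    have e : ps j = x3 := (rho g.1).injective ((hfix j).trans hj)
    have hx := three_x
    simp only [force_eq, hxv, Bool.not_eq_true', ← tau3_val, ← e, tau_ps, Nat.beq_refl] at hx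
    exact absurd hx (by decide)
  · exact Or.inl (Fin.ext (Nat.eq_of_beq_eq_true h))
  · exact Or.inr (Fin.ext (by rw [tau3_val]; exact Nat.eq_of_beq_eq_true h))
  · exfalso
    rw [List.map_map, List.mem_map] at hU
    obtain ⟨i, hi, rfl⟩ := hU
    have hi' : i < 72 := by
      have : ∀ i ∈ wit3, i < 72 := by decide
      exact this i hi
    have hcomm := model.commute_of_fix (g := g.1) (hfix ⟨i, hi'⟩)
    have hiff : rho (model.d (ps ⟨i, hi'⟩)) q = q ↔ rho (model.d (ps ⟨i, hi'⟩)) x3 = x3 := by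
      show rho _ (rho g.1 x3) = rho g.1 x3 ↔ _
      rw [← Equiv.Perm.mul_apply, ← map_mul, ← hcomm.eq, map_mul, Equiv.Perm.mul_apply,
        (rho g.1).injective.eq_iff]
    have e : ∀ p : Fin fi22h.n, Nat.beq (lane 13 (V (wj i)) p) p = true ↔ rho (model.d (ps ⟨i, hi'⟩)) p = p := fun p => by
      rw [Nat.beq_eq, ctx.hV (wj i) (wj_ok hi') p, Fin.ext_iff]
      rfl
    have : Nat.beq (lane 13 (V (wj i)) q) q = Nat.beq (lane 13 (V (wj i)) x3) x3 := by
      rw [Bool.eq_iff_iff, e, e]
      exact hiff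
    simp only [Function.comp_apply] at hne
    rw [show w3.getD i [] = wj i from rfl, this, beq_self_eq_true] at hne
    exact absurd hne (by decide)

theorem flipHom_injective : Function.Injective flipHom := by
  rw [injective_iff_map_eq_one]
  intro g hg
  have hz : flip g.1 = 0 := ofAdd_eq_one.1 hg
  have hfix := fix_ps (g := g.1) fun m t => by rw [img_bm g.2, hz, Pi.zero_apply, add_zero]
  set Ws := ((List.range 6).map fun m => w3.getD (2 * m) []) ++ [x3Word] with hWs
  have hlen : Ws.length = 7 := by simp [Ws]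
  have hW : ∀ a < 7, (a = 6 ∧ Ws.getD a [] = x3Word) ∨ (a < 6 ∧ Ws.getD a [] = wj (2 * a)) := fun a ha => by
    by_cases h6 : a = 6
    · subst h6; exact Or.inl ⟨rfl, by simp [Ws]⟩
    · refine Or.inr ⟨by omega, ?_⟩
      rw [hWs, List.getD_append _ _ _ _ (by simp; omega), six_words_getD (by omega)]
  refine Subtype.ext (Subtype.ext (eq_one_of_fix_extra (k := k3) Ws x3 (fun u hu => ?_) ?_ (x3_image hfix) ?_))
  · obtain ⟨a, ha, rfl⟩ := List.mem_iff_getElem.mp hu
    rw [← List.getD_eq_getElem _ []]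
    rcases hW a (hlen ▸ ha) with ⟨-, e⟩ | ⟨h6, e⟩ <;> rw [e]
    · exact x3_ok
    · exact wj_ok (by omega)
  · intro a ha hne
    rcases hW a (hlen ▸ ha) with ⟨-, e⟩ | ⟨h6, e⟩
    · exact absurd (by rw [e]; rfl) hne
    · rw [e]; exact ⟨tau_ps ⟨2 * a, by omega⟩, hfix ⟨2 * a, by omega⟩⟩
  · intro a ha
    have h := three_gen_paths
    simp only [mapF_eq, List.all_eq_true, List.mem_range, List.mem_singleton, Bool.and_eq_true, Nat.blt_eq,
      forall_eq] at h
    obtain ⟨hst, hw, he⟩ := h a ha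
    set u := gen3Paths.getD a (0, [])
    have e := Nat.eq_of_beq_eq_true he
    rw [P3_eq (Fi22Aut.letter_ok ha), P_eq (Fi22Aut.letter_ok ha)] at e
    by_cases hx : u.1 = 72
    · refine ⟨x3, u.2, Or.inl rfl, fun b hb => by rw [hlen]; exact hw b hb, ?_⟩
      have : (List.map P3 (w3 ++ [x3Word])).getD u.1 0 = (x3 : ℕ) := by
        rw [hx, List.map_append, List.getD_append_right _ _ _ _ (by simp [three_lengths.1])]
        simp [three_lengths.1, P3_eq x3_ok, P_eq x3_ok, x3]
      rw [← this]; exact e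
    · refine ⟨ps ⟨u.1, by omega⟩, u.2, Or.inr ⟨tau_ps _, hfix _⟩, fun b hb => by rw [hlen]; exact hw b hb, ?_⟩
      rw [← map_P3_getD ⟨u.1, by omega⟩,
        ← List.getD_append (w3.map P3) [P3 x3Word] 0 u.1 (by simp [three_lengths.1]; omega)]
      rw [List.map_append] at e
      exact e

/-- the product of a pair -/
noncomputable def pairEl (m : Fin 6) : ↥(T k3) :=
  ⟨model.d (ps (bm m 0)) * model.d (ps (bm m 1)), mul_mem (d_mem_T (tau_ps _)) (d_mem_T (tau_ps _))⟩

theorem theta_d (j : Fin 72) :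
    theta ⟨model.d (ps j), d_mem_T (tau_ps j)⟩ = Orth.refl Q6 (vv j) := by
  refine path_induction (fun j => theta ⟨model.d (ps j), d_mem_T (tau_ps j)⟩ = Orth.refl Q6 (vv j)) ?_ ?_ j
  · intro j hj
    refine ext_theta fun l => ?_
    rw [theta_vv, Orth.refl_ap, show Q6 (vv j) = 1 from Q_vv _, inv_one, one_mul]
    obtain ⟨k, hk, hv⟩ := refl_spec' j hj l
    rw [show img ⟨model.d (ps j), d_mem_T (tau_ps j)⟩ l = k from ps_injective ((img_spec _ l).symm.trans hk), hv,
      sub_eq_add_neg, CharTwo.neg_eq]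
  · intro m hm i k hi hk
    have e : (⟨model.d (ps k), d_mem_T (tau_ps k)⟩ : ↥(T k3)) =
        ⟨el3 m, el3_mem hm⟩ * ⟨model.d (ps i), d_mem_T (tau_ps i)⟩ * (⟨el3 m, el3_mem hm⟩)⁻¹ :=
      Subtype.ext (by show model.d (ps k) = _; rw [← hk, d_rho]; rfl)
    rw [e, map_mul, map_mul, map_inv, hi, Orth.conj_refl, theta_vv]
    congr 2
    exact ps_injective ((img_spec _ i).symm.trans hk)

theorem pairEl_mem (m : Fin 6) : pairEl m ∈ theta.ker := by
  rw [MonoidHom.mem_ker, show pairEl m = ⟨model.d (ps (bm m 0)), d_mem_T (tau_ps _)⟩ *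
    ⟨model.d (ps (bm m 1)), d_mem_T (tau_ps _)⟩ from rfl, map_mul, theta_d, theta_d,
    show vv (bm m 1) = vv (bm m 0) from (vv_eq_iff _ _).2 (by revert m; decide), Orth.refl_mul_self]

theorem flip_pairEl (m l : Fin 6) : flip (pairEl m) l = b2 ((flip3.getD m 0).testBit l) := by
  have h := three_flip
  simp only [mapF_eq, force_eq, List.all_eq_true, List.mem_range] at h
  have e := Nat.eq_of_beq_eq_true (h m m.2 l l.2)
  have g0 : ∀ (i : Fin 72), (i : ℕ) < 12 → ∀ p : Fin fi22h.n,
      lane 13 ((List.map V (List.take 12 w3)).getD i 0) p = (rho (model.d (ps i)) p : ℕ) := fun i hi p => by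
    have hl : (i : ℕ) < (w3.take 12).length := by rw [List.length_take, three_lengths.1]; omega
    rw [List.getD_eq_getElem _ _ (by rw [List.length_map]; exact hl), List.getElem_map, List.getElem_take,
      ← List.getD_eq_getElem _ [], show w3.getD i [] = wj i from rfl, ctx.hV _ (wj_ok i.2)]
    rfl
  have hm : ∀ t, (bm m t : ℕ) < 12 := fun t => by
    show 2 * m.val + t.val < 12
    have := ZMod.val_lt t
    omega
  have eP : (List.map P3 w3).getD (2 * l.val) 0 = (ps (bm l 0) : ℕ) := map_P3_getD (bm l 0)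
  have eT : rho (model.d (ps (bm m 0))) (rho (model.d (ps (bm m 1))) (ps (bm l 0))) =
      ps (bm l (b2 ((flip3.getD m 0).testBit l))) := by
    refine Fin.ext ?_
    rw [← g0 _ (hm 0), ← g0 _ (hm 1)]
    refine Eq.trans ?_ (e.trans ?_)
    · rw [eP]; rfl
    · cases (flip3.getD m 0).testBit l
      · exact eP
      · exact map_P3_getD (bm l 1)
  have e1 : img (pairEl m) (bm l 0) = bm l (b2 ((flip3.getD m 0).testBit l)) := ps_injective (by
    rw [← img_spec, show (pairEl m).1 = model.d (ps (bm m 0)) * model.d (ps (bm m 1)) from rfl, map_mul,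
      Equiv.Perm.mul_apply, eT])
  rw [img_bm (pairEl_mem m), zero_add] at e1
  exact bm_inj _ _ _ e1

/-- a row of the interchanges -/
def row (m : Fin 6) : Fin 6 → ZMod 2 := fun l => b2 ((flip3.getD m.val 0).testBit l.val)

theorem flip_rows : ∀ c : Fin 6 → ZMod 2, ∃ s : Finset (Fin 6), (∑ m ∈ s, row m) = c := by decide +kernel

theorem flipHom_surjective : Function.Surjective flipHom := by
  intro c
  obtain ⟨s, hs⟩ := flip_rows c.toAdd
  have hp : ∀ m, Multiplicative.ofAdd (row m) ∈ flipHom.range :=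
    fun m => ⟨⟨pairEl m, pairEl_mem m⟩, congrArg Multiplicative.ofAdd (funext (flip_pairEl m))⟩
  have := Subgroup.prod_mem flipHom.range (t := s) fun m _ => hp m
  rw [← ofAdd_sum, hs] at this
  exact this

theorem card_ker : Nat.card theta.ker = 64 := by
  rw [Nat.card_eq_of_bijective flipHom ⟨flipHom_injective, flipHom_surjective⟩,
    Nat.card_congr Multiplicative.toAdd, Nat.card_fun, Nat.card_zmod, Nat.card_fin]
  norm_num

theorem card_O6 : Nat.card (IsoGrp Q6) = 51840 := by
  show Nat.card ↥(Cfsg.isometryGroup (ZMod 2) (Cfsg.quadFormMinus 2 (ZMod 2) 1 1)) = _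
  have h := Cfsg.Agent.S0288.result (F := ZMod 2) (q := 2) (ZMod.card 2) 3 (by norm_num) 1 1 FischerM22.aniso_two
  rw [show (3 : ℕ) - 1 = 2 from rfl] at h
  rw [h]
  norm_num [Finset.prod_range_succ]

theorem card_T_ab : Nat.card (T k3) = 3317760 := by
  have h := Subgroup.card_mul_index theta.ker
  rw [Subgroup.index_ker, MonoidHom.range_eq_top.2 theta_surjective, Subgroup.card_top, card_ker, card_O6] at h
  exact h.symm

/-- the largest normal 2-subgroup is the kernel -/
theorem pCore_eq : Cfsg.pCore 2 ↥(T k3) = theta.ker := by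
  apply le_antisymm
  · refine sSup_le ?_
    rintro M ⟨hM, hp⟩
    letI : Fintype (GaloisField 2 2) := Fintype.ofFinite _
    obtain ⟨e⟩ := FischerM22.mulAut_psu4_equiv (F := GaloisField 2 2) (by
      rw [← Nat.card_eq_fintype_card, GaloisField.card 2 2 two_ne_zero]; rfl)
    let f : ↥(T k3) →* MulAut (Cfsg.PSU 4 (GaloisField 2 2) 2) :=
      (e.symm.toMonoidHom : IsoGrp Q6 →* MulAut (Cfsg.PSU 4 (GaloisField 2 2) 2)).comp theta
    have hf : Function.Surjective f := e.symm.surjective.comp theta_surjective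
    have hb := FischerM22.pCore_mulAut (F := GaloisField 2 2) (by
      rw [← Nat.card_eq_fintype_card, GaloisField.card 2 2 two_ne_zero]; rfl) (hM.map f hf) (hp.map f)
    rw [Subgroup.map_eq_bot_iff] at hb
    intro g hg
    have := hb hg
    rw [MonoidHom.mem_ker] at this
    exact MonoidHom.mem_ker.2 (e.symm.injective (this.trans (map_one e.symm).symm))
  · refine le_sSup ⟨inferInstance, IsPGroup.of_card (n := 6) ?_⟩
    rw [card_ker]
    norm_num

/-- the fixed group is `2^6.O6-(2)` -/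
theorem three_structure : ∃ O : Subgroup fi22Setup.G, O = (Cfsg.pCore 2 ↥(T k3)).map (T k3).subtype ∧
    Cfsg.IsElementaryAbelian 2 O ∧ Nat.card O = 64 ∧ ∃ _ : (O.subgroupOf (T k3)).Normal,
      Nonempty (↥(T k3) ⧸ O.subgroupOf (T k3) ≃*
        ↥(Cfsg.isometryGroup (ZMod 2) (Cfsg.quadFormMinus 2 (ZMod 2) 1 1))) := by
  have hsq : ∀ g : ↥theta.ker, g * g = 1 := fun g => flipHom_injective (by
    rw [map_mul, map_one, ← ofAdd_toAdd (flipHom g), ← ofAdd_add, ofAdd_eq_one]
    funext i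
    exact CharTwo.add_self_eq_zero _)
  refine ⟨_, rfl, ⟨⟨⟨?_⟩⟩, ?_⟩, ?_, ?_⟩
  · rintro ⟨_, a, ha, rfl⟩ ⟨_, b, hb, rfl⟩
    rw [SetLike.mem_coe, pCore_eq] at ha hb
    have := mul_comm (flipHom ⟨a, ha⟩) (flipHom ⟨b, hb⟩)
    rw [← map_mul, ← map_mul] at this
    exact Subtype.ext (congrArg (fun x : ↥theta.ker => (x : ↥(T k3)).1) (flipHom_injective this))
  · rintro _ ⟨a, ha, rfl⟩
    rw [SetLike.mem_coe, pCore_eq] at ha
    rw [pow_two, ← map_mul]
    exact congrArg (fun x : ↥theta.ker => (x : ↥(T k3)).1) (hsq ⟨a, ha⟩)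
  · rw [Nat.card_congr ((Cfsg.pCore 2 ↥(T k3)).equivMapOfInjective _ Subtype.val_injective).symm.toEquiv,
      pCore_eq, card_ker]
  · have e : ((Cfsg.pCore 2 ↥(T k3)).map (T k3).subtype).subgroupOf (T k3) = theta.ker := by
      rw [pCore_eq]
      exact Subgroup.comap_map_eq_self_of_injective Subtype.val_injective _
    have hn : (((Cfsg.pCore 2 ↥(T k3)).map (T k3).subtype).subgroupOf (T k3)).Normal := by rw [e]; infer_instance
    exact ⟨hn, ⟨(QuotientGroup.quotientMulEquivOfEq e).trans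
      (QuotientGroup.quotientKerEquivOfSurjective theta theta_surjective)⟩⟩

end Cfsg.Agent.Fi22AutFour
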