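import Cfsg.Agent.Lib.FischerM22.Outer.Classes
import Cfsg.Agent.Lib.FischerM22.AutFour.Three

/-!
The fixed group of the third representative of the outer involutions of Fi22 (helper79).

* `ab_structure` : the elements fixed by `s ∘ conj (a b)` form `2^6.O6-(2)`
-/

set_option autoImplicit false
set_option maxRecDepth 10000

namespace Cfsg.Agent.Fi22AutFour

open Cfsg.Agent.CosetEnum Cfsg.Agent.CosetEnum.Data
open Cfsg.Agent.Fi22U62 (rho pt0 z0)
open Cfsg.Agent.Fi22Aut (model)
open Cfsg.Agent.FischerM22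

theorem acts_twist (k : fi22Setup.G) : Outer.Acts (twist k) (tau k) := fun i => twist_d i

theorem card_fixed_tau3 : Nat.card {i // tau k3 i = i} = 72 := by
  have hb : Function.Bijective fun j : Fin 72 => (⟨ps j, tau_ps j⟩ : {i // tau k3 i = i}) := by
    refine ⟨fun a b h => ps_injective (congrArg Subtype.val h), fun i => ?_⟩
    obtain ⟨j, hj⟩ := fixed_iff.1 i.2
    exact ⟨j, Subtype.ext hj⟩
  rw [← Nat.card_eq_of_bijective _ hb, Nat.card_fin]

/-- the twist by two transpositions is the third class -/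
theorem twist_conj : IsConj (twist k3) (Outer.s * MulAut.conj (z0 * Outer.bd)) := by
  have hinv : twist k3 * twist k3 = 1 := by
    rw [← pow_two, ← orderOf_twist k3_mem_S k3_sq, pow_orderOf_eq_one]
  have h := Outer.count_check
  simp only [force_eq, Bool.and_eq_true] at h
  obtain ⟨h1, h2, -⟩ := h
  have c1 : Nat.card {i // Outer.sPerm i = i} = 360 :=
    (Outer.card_fixed_range Outer.sPerm Outer.piN Outer.sPerm_val).trans (Nat.eq_of_beq_eq_true h1)
  have c2 : Nat.card {i // (Outer.sPerm * rho z0) i = i} = 64 :=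
    (Outer.card_fixed_range _ (fun i => Outer.piN (lane 13 Outer.zN i)) fun i => by
      rw [Equiv.Perm.mul_apply, Outer.sPerm_val, Outer.zN_eq]).trans (Nat.eq_of_beq_eq_true h2)
  rcases Outer.classes twist_outer hinv (i := ps 0) (by rw [twist_d, tau_ps]) with hc | hc | hc
  · have := Outer.card_fixed_conj (acts_twist k3) Outer.acts_s hc
    rw [card_fixed_tau3, c1] at this
    omega
  · have := Outer.card_fixed_conj (acts_twist k3) Outer.acts_sa hc
    rw [card_fixed_tau3, c2] at this
    omega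
  · exact hc

/-- the elements fixed by the third representative -/
theorem ab_structure : ∃ C O : Subgroup fi22Setup.G,
    (∀ g, g ∈ C ↔ (Outer.s * MulAut.conj (z0 * Outer.bd)) g = g) ∧
    O = (Cfsg.pCore 2 ↥C).map C.subtype ∧ Cfsg.IsElementaryAbelian 2 O ∧ Nat.card O = 64 ∧
    ∃ _ : (O.subgroupOf C).Normal, Nonempty (↥C ⧸ O.subgroupOf C ≃*
      ↥(Cfsg.isometryGroup (ZMod 2) (Cfsg.quadFormMinus 2 (ZMod 2) 1 1))) := by
  obtain ⟨c, hc⟩ := isConj_iff.1 twist_conj
  refine ⟨(T k3).map c.toMonoidHom, _, fun g => ?_, rfl, ?_⟩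
  · obtain ⟨x, rfl⟩ := c.surjective g
    rw [← hc]
    refine ((Subgroup.mem_map_iff_mem (f := c.toMonoidHom) c.injective).trans mem_T).trans ?_
    simp only [MulAut.mul_apply]
    rw [MulAut.inv_apply_self, c.apply_eq_iff_eq]
  · obtain ⟨O, rfl, hO2, hO, hn, ⟨e⟩⟩ := three_structure
    have hmap : ((Cfsg.pCore 2 ↥(T k3)).map (T k3).subtype).map c.toMonoidHom =
        (Cfsg.pCore 2 ↥((T k3).map c.toMonoidHom)).map ((T k3).map c.toMonoidHom).subtype := by
      let f : ↥(T k3) ≃* ↥((T k3).map c.toMonoidHom) := (T k3).equivMapOfInjective _ c.injective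
      have hp : (Cfsg.pCore 2 ↥(T k3)).map f.toMonoidHom = Cfsg.pCore 2 ↥((T k3).map c.toMonoidHom) := by
        exact Cores.pCore_map_mulEquiv f 2
      rw [← hp, Subgroup.map_map, Subgroup.map_map]
      congr 1
    rw [← hmap]
    set O := (Cfsg.pCore 2 ↥(T k3)).map (T k3).subtype with hOdef
    have hOle : O ≤ T k3 := Subgroup.map_subtype_le _
    refine ⟨⟨⟨⟨?_⟩⟩, ?_⟩, ?_, ?_⟩
    · rintro ⟨_, a, ha, rfl⟩ ⟨_, b, hb, rfl⟩
      have := hO2.1.is_comm.comm ⟨a, ha⟩ ⟨b, hb⟩
      refine Subtype.ext ?_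
      show c a * c b = c b * c a
      rw [← map_mul, ← map_mul]
      exact congrArg c (congrArg Subtype.val this)
    · rintro _ ⟨a, ha, rfl⟩
      rw [← map_pow, hO2.2 a ha, map_one]
    · rw [Nat.card_congr (O.equivMapOfInjective _ c.injective).symm.toEquiv, hO]
    · let f : ↥(T k3) ≃* ↥((T k3).map c.toMonoidHom) := (T k3).equivMapOfInjective _ c.injective
      have he : (O.subgroupOf (T k3)).map f.toMonoidHom = (O.map c.toMonoidHom).subgroupOf ((T k3).map c.toMonoidHom) := by
        ext ⟨x, hx⟩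
        obtain ⟨y, hy, rfl⟩ := hx
        constructor
        · rintro ⟨z, hz, hzy⟩
          have : c z.1 = c y := congrArg Subtype.val hzy
          exact ⟨y, c.injective this ▸ hz, rfl⟩
        · intro h
          rw [Subgroup.mem_subgroupOf] at h
          exact ⟨⟨y, hy⟩, (Subgroup.mem_map_iff_mem (f := c.toMonoidHom) c.injective).1 h, Subtype.ext rfl⟩
      have := hn
      have hn' : ((O.map c.toMonoidHom).subgroupOf ((T k3).map c.toMonoidHom)).Normal :=
        he ▸ hn.map f.toMonoidHom f.surjective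
      exact ⟨hn', ⟨(QuotientGroup.congr _ _ f he).symm.trans e⟩⟩

end Cfsg.Agent.Fi22AutFour
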