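import Cfsg.Agent.Lib.FischerM22.AutFour.Main
import Cfsg.Agent.Lib.FischerM22.AutFour.OuterClasses
import Cfsg.Agent.Lib.FischerM22.AutFix

/-!
The outer involutions of a group of type M(22) (helper79).

* `exists_equiv` : the presented group maps onto any group of type M(22), transpositions onto `D`
-/

set_option autoImplicit false

namespace Cfsg.Agent.Fi22AutFour

open Cfsg.Agent.ThreeTrans Cfsg.Agent.ThreeTransSU Cfsg.Agent.FischerM22
open Cfsg.Agent.CosetEnum (fi22Setup fi22h)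
open Cfsg.Agent.Fi22U62 (rho pt0 z0)
open Cfsg.Agent.Fi22Aut (model)

theorem exists_equiv {G : Type*} [Group G] [Finite G] {D : Set G} (S' : Fi22Setup D) :
    ∃ ε : fi22Setup.G ≃* G, ∀ x, x ∈ D ↔ ∃ p, ε (model.d p) = x := by
  obtain ⟨a, b, c, d, e, f, g, h, i, Q⟩ := exists_frame S'
  have hcard := S1696.main.2
  have hsimple := S1696.main.1
  have := Fi22U62.fi22_finite
  set φ : fi22Setup.G →* G := frameHom S' Q with hφ
  have hz : φ z0 = a := by
    show frameHom S' Q (fi22Setup.el 0) = a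
    rw [show (fi22Setup.el 0 : fi22Setup.G) = PresentedGroup.of Cfsg.Spor.Fi22.Gen.a from rfl, frameHom]
    exact PresentedGroup.toGroup.of _
  have hinj : Function.Injective φ := by
    rw [← MonoidHom.ker_eq_bot_iff]
    refine (hsimple.eq_bot_or_eq_top_of_normal φ.ker inferInstance).resolve_right fun htop => ?_
    have h1 : φ z0 = 1 := MonoidHom.mem_ker.mp (htop ▸ Subgroup.mem_top z0)
    exact ne_one S'.cls.1 Q.far.left (hz ▸ h1)
  let ε : fi22Setup.G ≃* G := MulEquiv.ofBijective φ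
    ((Nat.bijective_iff_injective_and_card φ).2 ⟨hinj, by rw [group_card S']; exact hcard⟩)
  have hmem : ∀ p, ε (model.d p) ∈ D := by
    intro p
    obtain ⟨k, rfl⟩ := Fi22Aut.exists_map_pt0 p
    obtain ⟨x, hx, hcl⟩ := S'.cls.2.1
    rw [← Fi22Aut.model_rho, model.conj, Fi22Aut.model_d0, map_mul, map_mul, map_inv,
      show ε z0 = a from hz]
    have ha : a ∈ D := Q.far.left
    rw [hcl] at ha ⊢
    exact IsConj.trans ha (isConj_iff.2 ⟨ε k, rfl⟩)
  refine ⟨ε, fun x => ⟨fun hx => ?_, fun ⟨p, hp⟩ => hp ▸ hmem p⟩⟩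
  obtain ⟨y, hy, hcl⟩ := S'.cls.2.1
  have ha : a ∈ D := Q.far.left
  rw [hcl] at ha hx
  obtain ⟨u, hu⟩ := isConj_iff.1 (IsConj.trans ha.symm hx)
  refine ⟨rho (ε.symm u) pt0, ?_⟩
  rw [← Fi22Aut.model_rho, model.conj, Fi22Aut.model_d0, map_mul, map_mul, map_inv, ε.apply_symm_apply,
    show ε z0 = a from hz, hu]

end Cfsg.Agent.Fi22AutFour
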