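import Cfsg.Agent.Lib.FischerM22.AutFour.Faith

/-!
The automorphisms `s ∘ conj k` for involutions `k` of the fixed group of `s` (helper79).

* `twist`, `tau`, `rho_twist`, `twist_d`, `twist_outer`, `orderOf_twist`, `T` (the fixed group)
* `eq_one_of_fix_extra` : an element fixing generating data of fixed points and permuting an extra pair is trivial
-/

set_option autoImplicit false
set_option maxRecDepth 10000

namespace Cfsg.Agent.Fi22AutFour

open Cfsg.Agent.CosetEnum Cfsg.Agent.CosetEnum.Data
open Cfsg.Agent.Fi22U62 (rho pt0 z0 rho_injective rho_ev lane_trace)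
open Cfsg.Agent.Fi22Aut (okw okw_iff V P P_eq pt ctx model gpt d_gpt gen_top eq_one_of_fix)

theorem sAut_not_inner : sAut ∉ (MulAut.conj : fi22Setup.G →* MulAut fi22Setup.G).range := by
  rintro ⟨g, hg⟩
  refine sigma_not_mem ⟨g, Equiv.ext fun i => model.inj ?_⟩
  rw [d_rho, ← sAut_d, ← hg]
  rfl

theorem sign_rho (g : fi22Setup.G) : Equiv.Perm.sign (rho g) = 1 := by
  have := Fi22U62.fi22_finite
  have := S1696.main.1
  let φ : fi22Setup.G →* ℤˣ := Equiv.Perm.sign.comp rho
  rcases φ.normal_ker.eq_bot_or_eq_top with h | h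
  · have hle := Nat.card_le_card_of_injective φ ((MonoidHom.ker_eq_bot_iff _).1 h)
    rw [S1696.main.2, Nat.card_eq_fintype_card, Fintype.card_units_int] at hle
    norm_num at hle
  · exact MonoidHom.mem_ker.mp (show g ∈ φ.ker by rw [h]; exact Subgroup.mem_top g)

variable {k : fi22Setup.G}

/-- the permutation of the twisted automorphism -/
noncomputable def tau (k : fi22Setup.G) : Equiv.Perm (Fin fi22h.n) := sigma * rho k

/-- the twisted automorphism -/
noncomputable def twist (k : fi22Setup.G) : MulAut fi22Setup.G := sAut * MulAut.conj k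

theorem twist_apply (g : fi22Setup.G) : twist k g = sAut (k * g * k⁻¹) := rfl

theorem tau_not_mem : tau k ∉ rho.range := by
  rintro ⟨g, hg⟩
  have := congrArg Equiv.Perm.sign hg
  rw [tau, Equiv.Perm.sign_mul, sign_sigma, sign_rho, sign_rho] at this
  exact absurd this (by decide)

theorem rho_twist (g : fi22Setup.G) : rho (twist k g) = tau k * rho g * (tau k)⁻¹ := by
  rw [twist_apply, rho_sAut, map_mul, map_mul, map_inv, tau, mul_inv_rev, inv_eq_of_mul_eq_one_right sigma_sq]
  simp only [mul_assoc]

theorem rho_twist_apply (g : fi22Setup.G) (i : Fin fi22h.n) : rho (twist k g) (tau k i) = tau k (rho g i) := by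
  rw [rho_twist, Equiv.Perm.mul_apply, Equiv.Perm.mul_apply,
    show (tau k)⁻¹ (tau k i) = i from (tau k).symm_apply_apply i]

theorem twist_d (i : Fin fi22h.n) : twist k (model.d i) = model.d (tau k i) := by
  rw [twist_apply, ← d_rho, sAut_d]
  rfl

theorem twist_outer : twist k ∉ (MulAut.conj : fi22Setup.G →* MulAut fi22Setup.G).range := by
  intro h
  refine sAut_not_inner ?_
  have h2 := mul_mem h (inv_mem (show MulAut.conj k ∈ (MulAut.conj : fi22Setup.G →* MulAut fi22Setup.G).range from
    ⟨k, rfl⟩))
  rwa [twist, mul_inv_cancel_right] at h2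

theorem orderOf_twist (hk : k ∈ S) (h2 : k * k = 1) : orderOf (twist k) = 2 := by
  refine orderOf_eq_prime ?_ fun h => twist_outer (k := k) (h ▸ one_mem _)
  refine MulEquiv.ext fun g => ?_
  show sAut (k * sAut (k * g * k⁻¹) * k⁻¹) = g
  have hs : ∀ x, sAut (sAut x) = x := fun x => sFun_sFun x
  rw [map_mul, map_mul, map_inv, hs, mem_S.1 hk, show k⁻¹ = k from inv_eq_of_mul_eq_one_right h2]
  calc k * (k * g * k) * k = k * k * g * (k * k) := by simp only [mul_assoc]
    _ = g := by rw [h2, one_mul, mul_one]

theorem tau_tau (hk : k ∈ S) (h2 : k * k = 1) (i : Fin fi22h.n) : tau k (tau k i) = i := by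
  rw [tau, Equiv.Perm.mul_apply, Equiv.Perm.mul_apply, ← sigma_rho hk, sigma_sigma, ← Equiv.Perm.mul_apply,
    ← map_mul, h2, map_one, Equiv.Perm.one_apply]

/-- the fixed group -/
noncomputable def T (k : fi22Setup.G) : Subgroup fi22Setup.G :=
  (twist k).toMonoidHom.eqLocus (MonoidHom.id fi22Setup.G)

theorem mem_T {g : fi22Setup.G} : g ∈ T k ↔ twist k g = g := Iff.rfl

theorem tau_rho {g : fi22Setup.G} (hg : g ∈ T k) (i : Fin fi22h.n) : tau k (rho g i) = rho g (tau k i) := by
  rw [← rho_twist_apply, mem_T.1 hg]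

theorem d_mem_T {i : Fin fi22h.n} (h : tau k i = i) : model.d i ∈ T k := by rw [mem_T, twist_d, h]

theorem fixed_rho {g : fi22Setup.G} (hg : g ∈ T k) {i : Fin fi22h.n} (h : tau k i = i) :
    tau k (rho g i) = rho g i := by rw [tau_rho hg, h]

/-- follow words -/
theorem follow_pts (Ws : List (List ℕ)) (hok : ∀ u ∈ Ws, okw u = true) :
    ∀ (w : List ℕ), (∀ a ∈ w, a < Ws.length) → ∀ i : Fin fi22h.n,
      follow (Ws.map V) w i = (rho (ev (fun a => model.d (pt (Ws.getD a []))) w) i : ℕ)
  | [], _, i => by simp [follow, ev]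
  | a :: v, hw, i => by
    have ha := hw a List.mem_cons_self
    rw [follow, force_eq, show ev (fun a => model.d (pt (Ws.getD a []))) (a :: v) =
        ev (fun a => model.d (pt (Ws.getD a []))) v * model.d (pt (Ws.getD a [])) from rfl,
      map_mul, Equiv.Perm.mul_apply, ← follow_pts Ws hok v (fun x hx => hw x (List.mem_cons_of_mem _ hx)),
      List.getD_eq_getElem _ _ (by rw [List.length_map]; exact ha), List.getElem_map,
      List.getD_eq_getElem _ _ ha]
    congr 1
    exact ctx.hV _ (hok _ (List.getElem_mem _)) i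

/-- an element of a twisted fixed group fixing some fixed points, and moving an extra point `x` at most to
its image, is trivial when these points generate -/
theorem eq_one_of_fix_extra {g : fi22Setup.G}
    (Ws : List (List ℕ)) (x : Fin fi22h.n) (hok : ∀ u ∈ Ws, okw u = true)
    (hfix : ∀ a < Ws.length, pt (Ws.getD a []) ≠ x → tau k (pt (Ws.getD a [])) = pt (Ws.getD a []) ∧
      rho g (pt (Ws.getD a [])) = pt (Ws.getD a []))
    (hx : rho g x = x ∨ rho g x = tau k x)
    (hreach : ∀ a < 9, ∃ (start : Fin fi22h.n) (w : List ℕ),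
      (start = x ∨ tau k start = start ∧ rho g start = start) ∧ (∀ b ∈ w, b < Ws.length) ∧
      follow (Ws.map V) w start = (gpt a : ℕ)) : g = 1 := by
  set el := fun a => model.d (pt (Ws.getD a []))
  have key : ∀ π : Equiv.Perm (Fin fi22h.n), (∀ i, tau k i = i → rho g i = i → rho g i = π i) → rho g x = π x →
      (∀ a < Ws.length, ∀ i, rho g i = π i → rho g (rho (el a) i) = π (rho (el a) i)) →
      ∀ a < 9, rho g (gpt a) = π (gpt a) := by
    intro π hπ hπx hstep a ha
    obtain ⟨start, w, hs, hw, he⟩ := hreach a ha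
    have h0 : rho g start = π start := hs.elim (fun e => e ▸ hπx) (fun e => hπ start e.1 e.2)
    have e : rho (ev el w) start = gpt a := Fin.ext (by rw [← follow_pts Ws hok w hw, he])
    rw [← e]
    clear he e hs
    induction w generalizing start with
    | nil => simpa [ev] using h0
    | cons b w ih =>
      rw [show ev el (b :: w) = ev el w * el b from rfl, map_mul, Equiv.Perm.mul_apply]
      exact ih _ (fun c hc => hw c (List.mem_cons_of_mem b hc)) (hstep b (hw b List.mem_cons_self) start h0)
  rcases hx with hx | hx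
  · refine eq_one_of_fix fun a ha => key 1 (fun i _ h => h) hx (fun a ha i hi => ?_) a ha
    have hf : rho g (pt (Ws.getD a [])) = pt (Ws.getD a []) := by
      by_cases e : pt (Ws.getD a []) = x
      · rw [e]; exact hx
      · exact (hfix a ha e).2
    rw [Equiv.Perm.one_apply] at hi ⊢
    rw [← Equiv.Perm.mul_apply, ← map_mul, show g * el a = el a * g from (model.commute_of_fix hf).eq, map_mul,
      Equiv.Perm.mul_apply, hi]
  · exfalso
    have hall := key (tau k) (fun i h1 h2 => h2.trans h1.symm) hx (fun a ha i hi => by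
      have hd : g * el a * g⁻¹ = twist k (el a) := by
        rw [← d_rho, twist_d]
        congr 1
        by_cases e : pt (Ws.getD a []) = x
        · rw [e]; exact hx
        · rw [(hfix a ha e).2, (hfix a ha e).1]
      rw [← rho_twist_apply, ← hd, ← hi, map_mul, map_mul, map_inv, Equiv.Perm.mul_apply, Equiv.Perm.mul_apply,
        show (rho g)⁻¹ (rho g i) = i from (rho g).symm_apply_apply i])
    have hconj : MulAut.conj g = twist k := by
      refine MulEquiv.toMonoidHom_injective (MonoidHom.eq_of_eqOn_dense gen_top ?_)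
      rintro _ ⟨a, ha, rfl⟩
      show g * model.d (gpt a) * g⁻¹ = twist k (model.d (gpt a))
      rw [← d_rho, twist_d, hall a ha]
    exact twist_outer ⟨g, hconj⟩

end Cfsg.Agent.Fi22AutFour
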